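import Cfsg.Prelude.Def_Transfer
import Cfsg.Agent.Lib.Coprime.Sylow
import Cfsg.Agent.Lib.Wielandt.Internal
import Cfsg.Agent.Lib.CD.Basic

/-!
# The order formula for an elementary abelian group acting coprimely

For an elementary abelian `p`-group `A` normalising a subgroup `K` of order prime to `p`,
`∏ |C_K(L)| ^ p = |C_K(A)| ^ |A| * |K| ^ (n - 1)`, the product over the `n` subgroups `L` of order
`p` of `A`.  The factor `K` need not be solvable: one passes to invariant Sylow subgroups.
As an application, fixed-point factorisations give a factorisation.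
-/

set_option autoImplicit false
set_option linter.unusedSectionVars false

namespace Cfsg.Agent.Lib.CoprimeOrder

open Subgroup
open scoped Pointwise

variable {X : Type*} [Group X] [Finite X] {p : ℕ}

/-- The subgroups of order `p` of `A`. -/
abbrev Line (p : ℕ) (A : Subgroup X) : Type _ := {L : Subgroup X // L ≤ A ∧ Nat.card L = p}

theorem coprime_card [hp : Fact p.Prime] {A K : Subgroup X} (hA : Cfsg.IsElementaryAbelian p A)
    (hK : ¬ p ∣ Nat.card K) : (Nat.card A).Coprime (Nat.card K) := by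
  have hAp : IsPGroup p A := fun x => ⟨1, Subtype.ext (by simpa using hA.2 x x.2)⟩
  obtain ⟨k, hk⟩ := IsPGroup.iff_card.mp hAp
  rw [hk]
  exact Nat.Coprime.pow_left k (hp.out.coprime_iff_not_dvd.mpr hK)

theorem isSolvable_of_elementary {A : Subgroup X} (hA : Cfsg.IsElementaryAbelian p A) :
    Group.IsSolvable A := by
  haveI := hA.1
  letI : CommGroup A := { A.toGroup with mul_comm := fun a b => hA.1.is_comm.comm a b }
  infer_instance

theorem zpowers_line [hp : Fact p.Prime] {A : Subgroup X} (hA : Cfsg.IsElementaryAbelian p A)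
    {g : X} (hg : g ∈ A) (hg1 : g ≠ 1) : zpowers g ≤ A ∧ Nat.card (zpowers g) = p :=
  ⟨zpowers_le.mpr hg, by rw [Nat.card_zpowers, orderOf_eq_prime (hA.2 g hg) hg1]⟩

theorem line_eq_zpowers [hp : Fact p.Prime] {L : Subgroup X} (hL : Nat.card L = p) {g : X}
    (hg : g ∈ L) (hg1 : g ≠ 1) : L = zpowers g := by
  refine (eq_of_le_of_card_ge (zpowers_le.mpr hg) ?_).symm
  have h : orderOf g ∣ p := hL ▸ L.orderOf_dvd_natCard hg
  rcases (Nat.dvd_prime hp.out).mp h with h1 | h1
  · exact absurd (orderOf_eq_one_iff.mp h1) hg1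
  · rw [Nat.card_zpowers, h1, hL]

/-- The solvable case. -/
theorem prod_card_of_isSolvable [hp : Fact p.Prime] {A K : Subgroup X}
    (hA : Cfsg.IsElementaryAbelian p A) [Fintype (Line p A)] (hn : 1 ≤ Nat.card (Line p A))
    (hAK : A ≤ normalizer (K : Set X)) (hK : ¬ p ∣ Nat.card K) (hsolv : Group.IsSolvable K) :
    ∏ L : Line p A, Nat.card ↥(K ⊓ centralizer (L.1 : Set X)) ^ p =
      Nat.card ↥(K ⊓ centralizer (A : Set X)) ^ Nat.card A *
        Nat.card K ^ (Nat.card (Line p A) - 1) := by
  classical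
  set n := Nat.card (Line p A) with hn_def
  let H : Option (Option (Line p A)) → Subgroup A
    | none => (A : Subgroup X).subgroupOf A
    | some none => (⊥ : Subgroup X).subgroupOf A
    | some (some L) => L.1.subgroupOf A
  let a : Option (Option (Line p A)) → ℤ
    | none => -1
    | some none => -((n : ℤ) - 1)
    | some (some _) => 1
  have hrel : ∀ g : A, ∑ i, (if g ∈ H i then a i else 0) = 0 := by
    intro g
    rw [Fintype.sum_option, Fintype.sum_option]
    simp only [H, a, mem_subgroupOf, SetLike.coe_mem, if_true, mem_bot]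
    by_cases hg : (g : X) = 1
    · simp only [hg, if_true, one_mem, Finset.sum_const, nsmul_eq_mul, mul_one]
      rw [Finset.card_univ, ← Nat.card_eq_fintype_card, ← hn_def]
      ring
    · obtain ⟨h1, h2⟩ := zpowers_line hA g.2 hg
      rw [if_neg hg, Fintype.sum_eq_single (⟨zpowers (g : X), h1, h2⟩ : Line p A)]
      · simp
      · intro L hL
        rw [if_neg]
        intro hmem
        exact hL (Subtype.ext (line_eq_zpowers L.2.2 hmem hg))
  have hform := Wielandt.prod_card_fixedSub H a hrel hsolv (coprime_card hA hK)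
    (Coprime.conjAut hAK)
  rw [Fintype.prod_option, Fintype.prod_option] at hform
  simp only [H, a, Wielandt.card_fixedSub_conjAut hAK le_rfl,
    Wielandt.card_fixedSub_conjAut hAK bot_le] at hform
  have hbot : K ⊓ centralizer ((⊥ : Subgroup X) : Set X) = K := by
    refine inf_eq_left.mpr fun x _ => mem_centralizer_iff.mpr fun y hy => ?_
    rw [mem_bot.mp hy]; simp
  have hA' : Nat.card ↥((A : Subgroup X).subgroupOf A) = Nat.card A :=
    Nat.card_congr (subgroupOfEquivOfLe le_rfl).toEquiv
  have hB' : Nat.card ↥((⊥ : Subgroup X).subgroupOf A) = 1 := by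
    rw [Nat.card_congr (subgroupOfEquivOfLe bot_le).toEquiv, Subgroup.card_bot]
  have hL : ∀ L : Line p A,
      (Nat.card (Wielandt.fixedSub (Coprime.conjAut hAK) (L.1.subgroupOf A)) : ℚ) ^
        ((1 : ℤ) * Nat.card ↥(L.1.subgroupOf A)) =
      ((Nat.card ↥(K ⊓ centralizer (L.1 : Set X)) ^ p : ℕ) : ℚ) := by
    intro L
    rw [Wielandt.card_fixedSub_conjAut hAK L.2.1, Nat.card_congr (subgroupOfEquivOfLe L.2.1).toEquiv,
      L.2.2, one_mul, zpow_natCast, Nat.cast_pow]
  rw [Finset.prod_congr rfl (fun L _ => hL L), ← Nat.cast_prod, hbot, hA', hB'] at hform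
  have h0 : ((n : ℤ) - 1) = ((n - 1 : ℕ) : ℤ) := by omega
  rw [Nat.cast_one, mul_one, neg_one_mul, zpow_neg, zpow_natCast, h0, zpow_neg, zpow_natCast]
    at hform
  have hA0 : (Nat.card ↥(K ⊓ centralizer (A : Set X)) : ℚ) ≠ 0 := by
    exact_mod_cast Nat.card_pos.ne'
  have hK0 : (Nat.card K : ℚ) ≠ 0 := by exact_mod_cast Nat.card_pos.ne'
  field_simp at hform
  exact_mod_cast hform

/-- An invariant Sylow subgroup of `K` meets `C_K(B)` in a Sylow subgroup, for `B ≤ A`. -/
theorem card_sylow_inf_centralizer [hp : Fact p.Prime] {q : ℕ} [Fact q.Prime] {A K B : Subgroup X}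
    (hA : Cfsg.IsElementaryAbelian p A) (hBA : B ≤ A)
    (hAK : A ≤ normalizer (K : Set X)) (hK : ¬ p ∣ Nat.card K) (Q : Sylow q K)
    (hQ : A ≤ normalizer (((Q : Subgroup K).map K.subtype : Subgroup X) : Set X)) :
    Nat.card ↥((Q : Subgroup K).map K.subtype ⊓ centralizer (B : Set X)) =
      q ^ (Nat.card ↥(K ⊓ centralizer (B : Set X))).factorization q := by
  haveI := hA.1
  have hcop := coprime_card hA hK
  have hsolv : Group.IsSolvable A ∨ Group.IsSolvable K := .inl (isSolvable_of_elementary hA)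
  set M := K ⊓ centralizer (B : Set X) with hM
  have hAM : A ≤ normalizer (M : Set X) := by
    refine Coprime.le_normalizer_inf_centralizer hAK fun a ha => ?_
    rw [mem_normalizer_iff]
    intro x
    have hcom : ∀ y ∈ A, a * y * a⁻¹ = y := fun y hy => by
      have := congrArg Subtype.val (hA.1.is_comm.comm ⟨a, ha⟩ ⟨y, hy⟩)
      simp only [Subgroup.coe_mul] at this
      rw [this]; group
    refine ⟨fun hx => (hcom x (hBA hx)).symm ▸ hx, fun hx => ?_⟩
    have h1 := hBA hx
    have hxA : x ∈ A := by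
      have : x = a⁻¹ * (a * x * a⁻¹) * a := by group
      rw [this]; exact A.mul_mem (A.mul_mem (A.inv_mem ha) h1) ha
    rwa [hcom x hxA] at hx
  obtain ⟨R, hR⟩ := Coprime.exists_invariant_sylow (p := q) hAM
    (hcop.coprime_dvd_right (card_dvd_of_le inf_le_left)) (.inl (isSolvable_of_elementary hA))
  set R' := (R : Subgroup M).map M.subtype with hR'
  have hR'card : Nat.card R' = q ^ (Nat.card M).factorization q := by
    rw [hR', Nat.card_congr ((R : Subgroup M).equivMapOfInjective _ M.subtype_injective).toEquiv.symm,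
      Sylow.card_eq_multiplicity]
  have hR'K : R' ≤ K := (map_subtype_le _).trans inf_le_left
  obtain ⟨c, hc, hcQ⟩ := Coprime.exists_centralizer_conj_le hAK hcop hsolv hQ hR'K
    (R.2.map _) hR
  refine le_antisymm (Nat.le_of_dvd (pow_pos (Fact.out : q.Prime).pos _) ?_) ?_
  · obtain ⟨k, hk⟩ := IsPGroup.iff_card.mp
      (((Q.2).map K.subtype).to_le
        (inf_le_left : (Q : Subgroup K).map K.subtype ⊓ centralizer (B : Set X) ≤ _))
    have hdvd : Nat.card ↥((Q : Subgroup K).map K.subtype ⊓ centralizer (B : Set X)) ∣ Nat.card M :=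
      card_dvd_of_le (le_inf (inf_le_left.trans (map_subtype_le _)) inf_le_right)
    rw [hk] at hdvd ⊢
    exact Nat.pow_dvd_pow q
      (((Fact.out : q.Prime).pow_dvd_iff_le_factorization Nat.card_pos.ne').mp hdvd)
  · rw [← hR'card]
    have hle : R'.map (MulAut.conj c).toMonoidHom ≤
        (Q : Subgroup K).map K.subtype ⊓ centralizer (B : Set X) := by
      rintro _ ⟨u, hu, rfl⟩
      refine ⟨hcQ u hu, mem_centralizer_iff.mpr fun b hb => ?_⟩
      have h1 : b * c = c * b := mem_centralizer_iff.mp hc.2 b (hBA hb)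
      have h2 : b * u = u * b := mem_centralizer_iff.mp (map_subtype_le _ hu).2 b hb
      simp only [MulEquiv.coe_toMonoidHom, MulAut.conj_apply]
      calc b * (c * u * c⁻¹) = b * c * u * c⁻¹ := by group
        _ = c * (b * u) * c⁻¹ := by rw [h1]; group
        _ = c * (u * b) * c⁻¹ := by rw [h2]
        _ = c * u * c⁻¹ * (c * b) * c⁻¹ := by group
        _ = c * u * c⁻¹ * (b * c) * c⁻¹ := by rw [h1]
        _ = c * u * c⁻¹ * b := by group
    refine le_of_eq_of_le ?_ (Nat.le_of_dvd Nat.card_pos (card_dvd_of_le hle))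
    exact Nat.card_congr (R'.equivMapOfInjective _ (MulAut.conj c).injective).toEquiv

/-- The order formula, for an arbitrary group of order prime to `p`. -/
theorem prod_card [hp : Fact p.Prime] {A K : Subgroup X}
    (hA : Cfsg.IsElementaryAbelian p A) [Fintype (Line p A)] (hn : 1 ≤ Nat.card (Line p A))
    (hAK : A ≤ normalizer (K : Set X)) (hK : ¬ p ∣ Nat.card K) :
    ∏ L : Line p A, Nat.card ↥(K ⊓ centralizer (L.1 : Set X)) ^ p =
      Nat.card ↥(K ⊓ centralizer (A : Set X)) ^ Nat.card A *
        Nat.card K ^ (Nat.card (Line p A) - 1) := by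
  haveI := hA.1
  have h1 : (∏ L : Line p A, Nat.card ↥(K ⊓ centralizer (L.1 : Set X)) ^ p) ≠ 0 :=
    Finset.prod_ne_zero_iff.mpr fun L _ => pow_ne_zero _ Nat.card_pos.ne'
  have h2 : Nat.card ↥(K ⊓ centralizer (A : Set X)) ^ Nat.card A *
      Nat.card K ^ (Nat.card (Line p A) - 1) ≠ 0 :=
    mul_ne_zero (pow_ne_zero _ Nat.card_pos.ne') (pow_ne_zero _ Nat.card_pos.ne')
  refine Nat.eq_of_factorization_eq h1 h2 fun q => ?_
  by_cases hq : q.Prime
  swap
  · simp [Nat.factorization_eq_zero_of_not_prime _ hq]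
  haveI := Fact.mk hq
  obtain ⟨Q, hQ⟩ := Coprime.exists_invariant_sylow (p := q) hAK (coprime_card hA hK)
    (.inl (isSolvable_of_elementary hA))
  set Q' := (Q : Subgroup K).map K.subtype with hQ'
  have hQp : IsPGroup q Q' := Q.2.map _
  haveI := hQp.isNilpotent
  have hQsolv : Group.IsSolvable Q' := inferInstance
  have hQK : Q' ≤ K := map_subtype_le _
  have hform := prod_card_of_isSolvable hA hn hQ
    (fun h => hK (h.trans (card_dvd_of_le hQK))) hQsolv
  have hQc : Nat.card Q' = q ^ (Nat.card K).factorization q := by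
    rw [hQ', Nat.card_congr ((Q : Subgroup K).equivMapOfInjective _ K.subtype_injective).toEquiv.symm,
      Sylow.card_eq_multiplicity]
  rw [Finset.prod_congr rfl (fun (L : Line p A) _ =>
      congrArg (· ^ p) (card_sylow_inf_centralizer hA L.2.1 hAK hK Q hQ)),
    card_sylow_inf_centralizer hA le_rfl hAK hK Q hQ, hQc] at hform
  simp only [← pow_mul] at hform
  rw [Finset.prod_pow_eq_pow_sum, ← pow_add] at hform
  have hexp := Nat.pow_right_injective hq.two_le hform
  rw [Nat.factorization_prod_apply (fun L _ => pow_ne_zero _ Nat.card_pos.ne'),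
    Nat.factorization_mul (pow_ne_zero _ Nat.card_pos.ne') (pow_ne_zero _ Nat.card_pos.ne')]
  simp only [Nat.factorization_pow, Finsupp.coe_add, Pi.add_apply, Finsupp.smul_apply,
    smul_eq_mul]
  simp only [mul_comm _ (_ : ℕ)] at hexp ⊢
  linarith

/-- Fixed-point factorisations give a factorisation. -/
theorem eq_mul_of_fixed [hp : Fact p.Prime] {A K U V : Subgroup X}
    (hA : Cfsg.IsElementaryAbelian p A) (hA2 : p ^ 2 ≤ Nat.card A) (hK : ¬ p ∣ Nat.card K)
    (hAK : A ≤ normalizer (K : Set X)) (hU : U ≤ K) (hV : V ≤ K)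
    (hAU : A ≤ normalizer (U : Set X)) (hAV : A ≤ normalizer (V : Set X))
    (hfac : ∀ a ∈ A, a ≠ 1 → ((K ⊓ centralizer {a} : Subgroup X) : Set X) =
      ((U ⊓ centralizer {a} : Subgroup X) : Set X) *
        ((V ⊓ centralizer {a} : Subgroup X) : Set X)) :
    (K : Set X) = (U : Set X) * (V : Set X) := by
  classical
  haveI := hA.1
  haveI : Fintype (Line p A) := Fintype.ofFinite _
  have hcomm : ∀ {a b : X}, a ∈ A → b ∈ A → a * b = b * a := fun {a b} ha hb =>
    congrArg Subtype.val (hA.1.is_comm.comm ⟨a, ha⟩ ⟨b, hb⟩)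
  have hp1 := hp.out.one_lt
  -- two lines
  have hn2 : 2 ≤ Nat.card (Line p A) := by
    have hAbot : A ≠ ⊥ := by
      rintro rfl
      rw [Subgroup.card_bot] at hA2
      nlinarith
    obtain ⟨a, ha, ha1⟩ := (Subgroup.bot_or_exists_ne_one A).resolve_left hAbot
    obtain ⟨b, hb, hb1⟩ : ∃ b ∈ A, b ∉ zpowers a := by
      by_contra h
      push Not at h
      have := Nat.le_of_dvd Nat.card_pos (card_dvd_of_le (h : A ≤ zpowers a))
      rw [(zpowers_line hA ha ha1).2] at this
      nlinarith
    have hbne : b ≠ 1 := fun h => hb1 (h ▸ one_mem _)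
    rw [Nat.card_eq_fintype_card]
    refine Fintype.one_lt_card_iff.mpr
      ⟨⟨zpowers a, zpowers_line hA ha ha1⟩, ⟨zpowers b, zpowers_line hA hb hbne⟩, ?_⟩
    intro h
    exact hb1 (by
      have h' : zpowers a = zpowers b := congrArg Subtype.val h
      rw [h']; exact mem_zpowers b)
  set D := U ⊓ V with hD
  have hUV : A ≤ normalizer (D : Set X) := by
    intro a ha
    rw [mem_normalizer_iff]
    intro z
    simp only [hD, mem_inf, mem_normalizer_iff.mp (hAU ha) z, mem_normalizer_iff.mp (hAV ha) z]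
  have hndvd : ∀ {W : Subgroup X}, W ≤ K → ¬ p ∣ Nat.card W := fun hW h =>
    hK (h.trans (card_dvd_of_le hW))
  have key : ∀ B : Subgroup X, ((K ⊓ centralizer (B : Set X) : Subgroup X) : Set X) =
      ((U ⊓ centralizer (B : Set X) : Subgroup X) : Set X) *
        ((V ⊓ centralizer (B : Set X) : Subgroup X) : Set X) →
      Nat.card ↥(K ⊓ centralizer (B : Set X)) * Nat.card ↥(D ⊓ centralizer (B : Set X)) =
        Nat.card ↥(U ⊓ centralizer (B : Set X)) * Nat.card ↥(V ⊓ centralizer (B : Set X)) := by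
    intro B hB
    have h := CD.card_setMul_mul_card_inf (U ⊓ centralizer (B : Set X)) (V ⊓ centralizer (B : Set X))
    rw [← hB, ← inf_inf_distrib_right] at h
    exact h
  have hline : ∀ L : Line p A, ((K ⊓ centralizer (L.1 : Set X) : Subgroup X) : Set X) =
      ((U ⊓ centralizer (L.1 : Set X) : Subgroup X) : Set X) *
        ((V ⊓ centralizer (L.1 : Set X) : Subgroup X) : Set X) := by
    intro L
    have hne : L.1 ≠ ⊥ := fun h => by
      have := L.2.2; rw [h, Subgroup.card_bot] at this; omega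
    obtain ⟨a, ha, ha1⟩ := (Subgroup.bot_or_exists_ne_one L.1).resolve_left hne
    rw [line_eq_zpowers L.2.2 ha ha1, zpowers_eq_closure, centralizer_closure]
    exact hfac a (L.2.1 ha) ha1
  have hall : ((K ⊓ centralizer (A : Set X) : Subgroup X) : Set X) =
      ((U ⊓ centralizer (A : Set X) : Subgroup X) : Set X) *
        ((V ⊓ centralizer (A : Set X) : Subgroup X) : Set X) := by
    refine Set.Subset.antisymm ?_ ?_
    · intro k hk
      obtain ⟨L⟩ : Nonempty (Line p A) := Finite.card_pos_iff.mp (by omega)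
      have hkL : k ∈ ((K ⊓ centralizer (L.1 : Set X) : Subgroup X) : Set X) :=
        ⟨hk.1, centralizer_le L.2.1 hk.2⟩
      rw [hline L] at hkL
      obtain ⟨u, hu, v, hv, rfl⟩ := Set.mem_mul.mp hkL
      have hnorm : ∀ {W : Subgroup X}, A ≤ normalizer (W : Set X) →
          A ≤ normalizer ((W ⊓ centralizer (L.1 : Set X) : Subgroup X) : Set X) := fun {W} hW =>
        Coprime.le_normalizer_inf_centralizer hW fun a ha => mem_normalizer_iff.mpr fun x =>
          ⟨fun hx => by
            rw [hcomm ha (L.2.1 hx), mul_inv_cancel_right]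
            exact hx,
          fun hx => by
            have hxA : x ∈ A := by
              rw [show x = a⁻¹ * (a * x * a⁻¹) * a by group]
              exact A.mul_mem (A.mul_mem (A.inv_mem ha) (L.2.1 hx)) ha
            rwa [hcomm ha hxA, mul_inv_cancel_right] at hx⟩
      obtain ⟨u', hu', v', hv', huv⟩ := Coprime.exists_centralizer_mul_centralizer
        (hnorm hAU) (hnorm hAV)
        (coprime_card hA (hndvd (inf_le_left.trans (inf_le_left.trans hU))))
        (.inl (isSolvable_of_elementary hA)) hu hv hk.2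
      exact Set.mem_mul.mpr ⟨u', ⟨hu'.1.1, hu'.2⟩, v', ⟨hv'.1.1, hv'.2⟩, huv⟩
    · rintro _ ⟨u, hu, v, hv, rfl⟩
      exact mul_mem (s := K ⊓ centralizer (A : Set X)) ⟨hU hu.1, hu.2⟩ ⟨hV hv.1, hv.2⟩
  have fK := prod_card hA (by omega) hAK hK
  have fU := prod_card hA (by omega) hAU (hndvd hU)
  have fV := prod_card hA (by omega) hAV (hndvd hV)
  have fD := prod_card hA (by omega) hUV (hndvd (inf_le_left.trans hU))
  set n := Nat.card (Line p A) with hn
  have hprod : (∏ L : Line p A, Nat.card ↥(K ⊓ centralizer (L.1 : Set X)) ^ p) *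
      (∏ L : Line p A, Nat.card ↥(D ⊓ centralizer (L.1 : Set X)) ^ p) =
      (∏ L : Line p A, Nat.card ↥(U ⊓ centralizer (L.1 : Set X)) ^ p) *
      (∏ L : Line p A, Nat.card ↥(V ⊓ centralizer (L.1 : Set X)) ^ p) := by
    rw [← Finset.prod_mul_distrib, ← Finset.prod_mul_distrib]
    refine Finset.prod_congr rfl fun L _ => ?_
    rw [← mul_pow, key _ (hline L), mul_pow]
  rw [fK, fU, fV, fD, mul_mul_mul_comm, mul_mul_mul_comm _ (Nat.card U ^ (n - 1)), ← mul_pow,
    ← mul_pow, ← mul_pow, key _ hall, ← mul_pow] at hprod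
  have heq : Nat.card K * Nat.card ↥D = Nat.card U * Nat.card V :=
    Nat.pow_left_injective (by omega)
      (Nat.eq_of_mul_eq_mul_left (pow_pos (Nat.mul_pos Nat.card_pos Nat.card_pos) _) hprod)
  have hcard := CD.card_setMul_mul_card_inf U V
  rw [← hD, ← heq] at hcard
  have hset : Nat.card ↥((U : Set X) * (V : Set X)) = Nat.card K :=
    Nat.eq_of_mul_eq_mul_right Nat.card_pos hcard
  refine (Set.eq_of_subset_of_ncard_le ?_ ?_ (Set.toFinite _)).symm
  · rintro _ ⟨u, hu, v, hv, rfl⟩
    exact K.mul_mem (hU hu) (hV hv)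
  · rw [← Nat.card_coe_set_eq, ← Nat.card_coe_set_eq, hset]
    rfl

end Cfsg.Agent.Lib.CoprimeOrder
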